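import Cfsg.Agent.Lib.Helper99.X3.Defs
import Cfsg.Prelude.Def_LieClassical
import Cfsg.Agent.Lib.Helper9.AschU.Base
import Cfsg.Agent.Lib.Helper74.X3.U3

set_option autoImplicit false
open scoped MatrixGroups

namespace Cfsg.Agent.Lib.Helper99.X3

open Cfsg.Agent.Lib.Helper13 Cfsg.Agent.Lib.Helper9.AschU

variable {F : Type*} [Field F]

local notation "M3" => Matrix (Fin 3) (Fin 3) F

theorem DIU [Fintype F] {q : ℕ} (hF : Fintype.card F = q ^ 2) (l : Fin 3 → F) (hl : ∀ i, l i ^ (q + 1) = 1) :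
    ∃ D ∈ Cfsg.GU 3 F q, (D : M3) = Matrix.diagonal l := by
  classical
  have hq0 : q ≠ 0 := by
    rintro rfl
    simp at hF
  obtain ⟨D, hD, hDX⟩ := U3 hF (fun i => l i • Pi.single i 1) (by
    intro i j
    rw [hermForm_smul_left, hermForm_smul_right, hermForm_single_left]
    by_cases hij : i = j
    · subst hij
      rw [if_pos rfl, Pi.single_eq_same, one_pow, mul_one, ← pow_succ', hl]
    · rw [if_neg hij, Pi.single_apply, if_neg hij, zero_pow hq0, mul_zero, mul_zero])
  refine ⟨D, hD, ?_⟩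
  ext i j
  rw [hDX, Matrix.diagonal_apply]
  by_cases hij : i = j
  · subst hij
    simp
  · rw [if_neg hij]
    simp [Pi.single_apply, hij]

end Cfsg.Agent.Lib.Helper99.X3
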